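import Cfsg.Agent.Spor.Rub.L.D0

set_option autoImplicit false
set_option maxRecDepth 100000000
set_option Elab.async false

namespace Cfsg.Agent.Spor.Rub.L

theorem uok4 : Net.okb 11 un4 = true := by decide +kernel

theorem rel3 : U.rel 11 [9, 6, 6, 1, 6, 3, 6, 4, 4, 1] 0 11 = true := by decide +kernel

theorem rel4 : U.rel 11 [1, 1] 0 11 = true := by decide +kernel

theorem rel5 : U.rel 11 [9, 3, 9, 4, 4, 10, 10, 9, 3, 9, 4, 4, 10, 10, 9, 3, 9, 4, 4, 10, 10, 9, 3, 9, 4, 4, 10, 10] 0 11 = true := by decide +kernel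

theorem rel6 : U.rel 11 [9, 3, 9, 4, 4, 10, 10, 9, 3, 9, 4, 4, 10, 10, 3, 3, 10, 4, 9, 3, 9, 4, 4, 10, 3, 3, 10, 4, 10, 3, 9, 4, 4, 3, 9, 4, 4, 3, 3, 10, 4, 9, 3, 9, 4, 4, 10, 3, 3, 10, 4, 10, 3, 9, 4, 4, 3, 9, 4, 4] 0 11 = true := by decide +kernel

theorem rel7 : U.rel 11 [9, 3, 9, 4, 4, 10, 10, 9, 3, 9, 4, 4, 10, 10, 3, 3, 10, 4, 9, 3, 9, 4, 4, 10, 3, 3, 10, 4, 3, 3, 10, 4, 9, 3, 9, 4, 4, 3, 3, 10, 4, 9, 3, 9, 4, 4, 10, 3, 3, 10, 4, 3, 3, 10, 4, 9, 3, 9, 4, 4] 0 11 = true := by decide +kernel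

theorem rel8 : U.rel 11 [9, 3, 9, 4, 4, 10, 10, 3, 3, 10, 4, 10, 3, 9, 4, 4, 3, 9, 4, 4, 9, 9, 3, 3, 10, 4, 10, 3, 3, 10, 4, 9, 3, 9, 4, 4, 10, 3, 3, 10, 4, 3, 3, 10, 4, 9, 3, 9, 4, 4, 9, 3, 3, 10, 4, 10, 3, 9, 4, 4] 0 11 = true := by decide +kernel

theorem rel9 : U.rel 11 [3, 3, 10, 4, 9, 3, 9, 4, 4, 10, 3, 3, 10, 4, 9, 3, 9, 4, 4, 10, 3, 3, 10, 4, 9, 3, 9, 4, 4, 10, 3, 3, 10, 4, 9, 3, 9, 4, 4, 10] 0 11 = true := by decide +kernel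

theorem rel10 : U.rel 11 [9, 3, 9, 4, 4, 10, 10, 9, 3, 3, 10, 4, 10, 3, 9, 4, 4, 3, 3, 10, 4, 10, 3, 9, 4, 4, 3, 9, 4, 4, 3, 3, 10, 4, 9, 3, 9, 4, 4, 10, 9, 9, 3, 3, 10, 4, 10, 3, 3, 10, 4, 3, 3, 10, 4, 9, 3, 9, 4, 4] 0 11 = true := by decide +kernel

theorem rel11 : U.rel 11 [9, 3, 9, 4, 4, 10, 10, 3, 3, 10, 4, 9, 3, 9, 4, 4, 10, 3, 3, 10, 4, 3, 3, 10, 4, 9, 3, 9, 4, 4, 9, 3, 9, 4, 4, 10, 10, 3, 3, 10, 4, 9, 3, 9, 4, 4, 10, 3, 3, 10, 4, 3, 3, 10, 4, 9, 3, 9, 4, 4] 0 11 = true := by decide +kernel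

theorem rel12 : U.rel 11 [3, 3, 10, 4, 10, 3, 9, 4, 4, 3, 9, 4, 4, 3, 3, 10, 4, 10, 3, 9, 4, 4, 3, 9, 4, 4, 3, 3, 10, 4, 10, 3, 9, 4, 4, 3, 9, 4, 4, 3, 3, 10, 4, 10, 3, 9, 4, 4, 3, 9, 4, 4] 0 11 = true := by decide +kernel

theorem rel13 : U.rel 11 [10, 3, 3, 10, 4, 10, 10, 3, 3, 10, 4, 9, 3, 9, 4, 4, 10, 3, 3, 10, 4, 10, 3, 9, 4, 4, 3, 9, 4, 4, 3, 3, 10, 4, 9, 3, 9, 4, 4, 10] 0 11 = true := by decide +kernel

theorem rel14 : U.rel 11 [9, 9, 9, 9] 0 11 = true := by decide +kernel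

theorem rel15 : U.rel 11 [3, 3, 10, 4, 3, 3, 10, 4, 3, 3, 10, 4, 3, 3, 10, 4] 0 11 = true := by decide +kernel

theorem rel16 : U.rel 11 [3, 10, 4, 9, 3, 3, 3, 10, 4, 10, 10, 3, 3, 10, 4] 0 11 = true := by decide +kernel

theorem rel17 : U.rel 11 [3, 9, 9, 4, 9, 4, 3, 3, 10, 4, 10, 10, 3, 9, 4, 4, 10] 0 11 = true := by decide +kernel

theorem rel18 : U.rel 11 [3, 3, 3, 3, 3] 0 11 = true := by decide +kernel

theorem rel19 : U.rel 11 [10, 3, 10, 3, 10, 3, 10, 3] 0 11 = true := by decide +kernel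

theorem rel20 : U.rel 11 [9, 4, 10, 4, 4, 9, 4, 10, 4, 4] 0 11 = true := by decide +kernel

theorem rel21 : U.rel 11 [3, 9, 3, 9, 3, 9, 3, 9] 0 11 = true := by decide +kernel

theorem rel22 : U.rel 11 [1, 4, 1, 9, 3, 10, 3, 10, 10, 4, 1, 3, 1, 4, 9, 4, 10, 4] 0 11 = true := by decide +kernel

theorem rel23 : U.rel 11 [1, 3, 1, 9, 1, 4, 1, 10, 10, 3, 3, 9, 4, 10, 10, 4, 4, 10] 0 11 = true := by decide +kernel

theorem rel24 : U.rel 11 [1, 4, 1, 9, 9, 1, 3, 1, 4, 4, 10, 3, 3, 9, 4, 4] 0 11 = true := by decide +kernel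

theorem rel25 : U.rel 11 [1, 3, 1, 4, 1, 3, 9, 3, 10, 3, 1, 3, 1, 4, 1, 4, 9, 4, 10, 4] 0 11 = true := by decide +kernel

theorem rel26 : U.rel 11 [1, 9, 1, 3, 10, 4, 9, 3, 9, 4, 4, 10, 3] 0 11 = true := by decide +kernel

theorem rel27 : U.rel 11 [1, 3, 9, 4, 4, 1, 4, 4, 10, 4, 4, 10, 3, 3, 10, 3] 0 11 = true := by decide +kernel

theorem rel28 : U.rel 11 [1, 3, 1, 3, 1, 3, 1, 3, 1, 3, 1, 3, 1, 3, 1, 3] 0 11 = true := by decide +kernel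

theorem rel29 : U.rel 11 [1, 3, 1, 3, 1, 4, 1, 9, 3, 10, 1, 4, 1, 4, 1, 3, 1, 4, 1, 3, 10, 10, 3, 3] 0 11 = true := by decide +kernel

theorem sd31 : U.sends [1] 0 1 = true := by decide +kernel

theorem uok5 : Net.okb 11 un5 = true := by decide +kernel

theorem rel32 : U.rel 11 [11, 3, 1, 5, 1] 0 11 = true := by decide +kernel

theorem uok6 : Net.okb 11 un6 = true := by decide +kernel

theorem rel33 : U.rel 11 [13, 3, 5, 5, 3, 3, 1, 3, 1, 3, 5, 3, 1, 3, 1, 5, 1, 5, 3, 1, 3, 3, 1, 5, 3, 1] 0 11 = true := by decide +kernel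

theorem gr35 : sub M34 (U.growI W1 [0, 1, 2, 2, 1, 0, 1, 2, 2, 1, 0, 1, 2, 2, 1, 0, 1, 2, 2, 1, 0, 1, 2] (Nat.shiftLeft 1 0)) = true := by decide +kernel

theorem cl37 : band (U.closedW W1 M34) (sub (Nat.shiftLeft 1 0) M34) = true := by decide +kernel

theorem sz38 : sizeOk 11 M34 1755 = true := by decide +kernel

theorem fx41 : U.closedW W40 (Nat.shiftLeft 1 0) = true := by decide +kernel

theorem uok7 : Net.okb 11 un7 = true := by decide +kernel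

theorem rel42 : U.rel 11 [15, 13, 11, 13, 11, 13, 11, 11, 11, 11, 11, 11, 11, 13, 13, 13, 11, 13, 11, 11, 11, 11, 11, 11, 13] 0 11 = true := by decide +kernel

theorem uok8 : Net.okb 11 un8 = true := by decide +kernel

theorem rel43 : U.rel 11 [17, 13, 13, 13, 13, 11, 11, 13, 11, 13, 11, 13, 11, 13, 13, 11, 13, 13, 11, 13, 13, 11, 11, 13, 11, 13, 11, 11, 13, 11, 13, 13] 0 11 = true := by decide +kernel

theorem gr45 : sub M44 (U.growI W40 [0, 1, 1, 0, 0, 1, 1, 0, 0, 1, 1, 0, 0, 1, 1, 0, 0, 1, 1, 0] (Nat.shiftLeft 1 101)) = true := by decide +kernel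

theorem cl47 : band (U.closedW W40 M44) (sub (Nat.shiftLeft 1 101) M44) = true := by decide +kernel

theorem sz48 : sizeOk 11 M44 1024 = true := by decide +kernel

theorem fx51 : U.closedW W50 (Nat.shiftLeft 1 101) = true := by decide +kernel

theorem gr53 : sub M52 (U.growI W50 [0, 1, 1, 0, 0, 1, 1] (Nat.shiftLeft 1 21)) = true := by decide +kernel

theorem cl55 : band (U.closedW W50 M52) (sub (Nat.shiftLeft 1 21) M52) = true := by decide +kernel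

theorem sz56 : sizeOk 11 M52 20 = true := by decide +kernel

end Cfsg.Agent.Spor.Rub.L
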