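import Cfsg.Agent.Spor.Prim
import Cfsg.Agent.Spor.Rub.Main
import Cfsg.Agent.Spor.Rub.L.C0
import Cfsg.Agent.Spor.TT2
import Cfsg.Agent.Spor.Tia.Main

set_option autoImplicit false
set_option maxRecDepth 100000000
set_option Elab.async false

namespace Cfsg.Agent.Spor.Rub.L

theorem hU : U.Ok 11 := U.ok_of 11 (show AllP (fun n => Net.okb 11 n = true) [n0, n1, n2, n3, un4, un5, un6, un7, un8] from AllP.cons ok0 (AllP.cons ok1 (AllP.cons ok2 (AllP.cons ok3 (AllP.cons uok4 (AllP.cons uok5 (AllP.cons uok6 (AllP.cons uok7 (AllP.cons uok8 (AllP.nil))))))))))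

theorem hfP : ∀ j < 3, U.fP [1, 3, 5] j = fP j := by
  intro j hj
  interval_cases j <;> rfl
theorem eG : gsub 3 fP = U.lsub W1 := (gsub_congr hfP).symm.trans (lsub_eq_gsub U [1, 3, 5])
theorem upz1 : ev (atm 3 fP) [0] = U.τ 1 := pz1
theorem upz3 : ev (atm 3 fP) [2] = U.τ 3 := pz2
theorem upz5 : ev (atm 3 fP) [4] = U.τ 5 := pz3
theorem upz7 : ev (atm 3 fP) [0, 3, 3, 5, 2, 0] = U.τ 7 := pz6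
theorem eH : wsub 3 fP BW = U.lsub W2 :=
  lsub_eq_of_all₂ (show List.Forall₂ _ [[2], [4], [0, 3, 3, 5, 2, 0]] [[3], [5], [7]] from List.Forall₂.cons (upz3.trans (one_mul _).symm) (List.Forall₂.cons (upz5.trans (one_mul _).symm) (List.Forall₂.cons (upz7.trans (one_mul _).symm) (List.Forall₂.nil))))
theorem vpz1 : PZ U (atm 3 fP) EXU 1 := pz1
theorem vpz2 : PZ U (atm 3 fP) EXU 2 := PZ.of_inv hiv vpz1 (by decide +kernel)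
theorem vpz3 : PZ U (atm 3 fP) EXU 3 := pz2
theorem vpz4 : PZ U (atm 3 fP) EXU 4 := PZ.of_inv hiv vpz3 (by decide +kernel)
theorem vpz5 : PZ U (atm 3 fP) EXU 5 := pz3
theorem vpz6 : PZ U (atm 3 fP) EXU 6 := PZ.of_inv hiv vpz5 (by decide +kernel)
theorem vpz7 : PZ U (atm 3 fP) EXU 7 := pz6
theorem vpz8 : PZ U (atm 3 fP) EXU 8 := PZ.of_inv hiv vpz7 (by decide +kernel)
theorem vpz9 : PZ U (atm 3 fP) EXU 9 := PZ.of_def hiv (d := [6, 6, 1, 6, 3, 6, 4, 4, 1]) (AllP.cons vpz6 (AllP.cons vpz6 (AllP.cons vpz1 (AllP.cons vpz6 (AllP.cons vpz3 (AllP.cons vpz6 (AllP.cons vpz4 (AllP.cons vpz4 (AllP.cons vpz1 (AllP.nil)))))))))) (hU.one rel3) (by decide +kernel)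
theorem vpz10 : PZ U (atm 3 fP) EXU 10 := PZ.of_inv hiv vpz9 (by decide +kernel)
theorem hPZU : AllP (PZ U (atm 3 fP) EXU) LU :=
  show AllP (PZ U (atm 3 fP) EXU) [1, 2, 3, 4, 5, 6, 7, 8, 9, 10] from AllP.cons vpz1 (AllP.cons vpz2 (AllP.cons vpz3 (AllP.cons vpz4 (AllP.cons vpz5 (AllP.cons vpz6 (AllP.cons vpz7 (AllP.cons vpz8 (AllP.cons vpz9 (AllP.cons vpz10 (AllP.nil))))))))))
theorem pTsq : ∀ j < 1, j < 3 → U.fP [1, 9, 3] j * U.fP [1, 9, 3] j = 1 :=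
  Tab.sq (show AllP (fun z => evA U.τ [z, z] = 1) [1] from AllP.cons (hU.one rel4) (AllP.nil)) 3 rfl
theorem pTiv : IvOk (2 * 1) (atm 3 (U.fP [1, 9, 3])) := ivOk_atm pTsq
theorem pTpz1 : PZ U (atm 3 (U.fP [1, 9, 3])) pTEX 1 := PZ.of_atom (y := 2 * 0) (by decide +kernel) (atm_two_mul _ (by decide))
theorem pTpz9 : PZ U (atm 3 (U.fP [1, 9, 3])) pTEX 9 := PZ.of_atom (y := 2 * 1) (by decide +kernel) (atm_two_mul _ (by decide))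
theorem pTpz10 : PZ U (atm 3 (U.fP [1, 9, 3])) pTEX 10 := PZ.of_inv pTiv pTpz9 (by decide +kernel)
theorem pTpz3 : PZ U (atm 3 (U.fP [1, 9, 3])) pTEX 3 := PZ.of_atom (y := 2 * 2) (by decide +kernel) (atm_two_mul _ (by decide))
theorem pTpz4 : PZ U (atm 3 (U.fP [1, 9, 3])) pTEX 4 := PZ.of_inv pTiv pTpz3 (by decide +kernel)
theorem pTPZ : AllP (PZ U (atm 3 (U.fP [1, 9, 3])) pTEX) [1, 3, 4, 9, 10] :=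
  AllP.cons pTpz1 (AllP.cons pTpz3 (AllP.cons pTpz4 (AllP.cons pTpz9 (AllP.cons pTpz10 (AllP.nil)))))
theorem pT : Pres 3 1 Tia.RL (U.fP [1, 9, 3]) :=
  ⟨pTsq, relAll_sound pTiv (W := [[9, 3, 9, 4, 4, 10, 10, 9, 3, 9, 4, 4, 10, 10, 9, 3, 9, 4, 4, 10, 10, 9, 3, 9, 4, 4, 10, 10], [9, 3, 9, 4, 4, 10, 10, 9, 3, 9, 4, 4, 10, 10, 3, 3, 10, 4, 9, 3, 9, 4, 4, 10, 3, 3, 10, 4, 10, 3, 9, 4, 4, 3, 9, 4, 4, 3, 3, 10, 4, 9, 3, 9, 4, 4, 10, 3, 3, 10, 4, 10, 3, 9, 4, 4, 3, 9, 4, 4], [9, 3, 9, 4, 4, 10, 10, 9, 3, 9, 4, 4, 10, 10, 3, 3, 10, 4, 9, 3, 9, 4, 4, 10, 3, 3, 10, 4, 3, 3, 10, 4, 9, 3, 9, 4, 4, 3, 3, 10, 4, 9, 3, 9, 4, 4, 10, 3, 3, 10, 4, 3, 3, 10, 4, 9, 3, 9, 4, 4], [9, 3, 9, 4, 4, 10, 10, 3, 3, 10, 4, 10, 3, 9, 4, 4, 3, 9, 4, 4, 9, 9, 3, 3, 10, 4, 10, 3, 3, 10, 4, 9, 3, 9,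 4, 4, 10, 3, 3, 10, 4, 3, 3, 10, 4, 9, 3, 9, 4, 4, 9, 3, 3, 10, 4, 10, 3, 9, 4, 4], [3, 3, 10, 4, 9, 3, 9, 4, 4, 10, 3, 3, 10, 4, 9, 3, 9, 4, 4, 10, 3, 3, 10, 4, 9, 3, 9, 4, 4, 10, 3, 3, 10, 4, 9, 3, 9, 4, 4, 10], [9, 3, 9, 4, 4, 10, 10, 9, 3, 3, 10, 4, 10, 3, 9, 4, 4, 3, 3, 10, 4, 10, 3, 9, 4, 4, 3, 9, 4, 4, 3, 3, 10, 4, 9, 3, 9, 4, 4, 10, 9, 9, 3, 3, 10, 4, 10, 3, 3, 10, 4, 3, 3, 10, 4, 9, 3, 9, 4, 4], [9, 3, 9, 4, 4, 10, 10, 3, 3, 10, 4, 9, 3, 9, 4, 4, 10, 3, 3, 10, 4, 3, 3, 10, 4, 9, 3, 9, 4, 4, 9, 3, 9, 4, 4, 10, 10, 3, 3, 10, 4, 9, 3, 9, 4, 4, 10, 3, 3, 10, 4, 3, 3, 10, 4, 9, 3, 9, 4, 4], [3, 3, 10, 4, 10, 3, 9, 4, 4, 3, 9, 4, 4, 3, 3, 10, 4, 10, 3, 9, 4, 4, 3, 9, 4, 4, 3, 3, 10, 4, 10, 3, 9, 4, 4, 3, 9, 4, 4, 3, 3, 10, 4, 10, 3, 9, 4, 4, 3, 9, 4, 4], [10, 3,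 3, 10, 4, 10, 10, 3, 3, 10, 4, 9, 3, 9, 4, 4, 10, 3, 3, 10, 4, 10, 3, 9, 4, 4, 3, 9, 4, 4, 3, 3, 10, 4, 9, 3, 9, 4, 4, 10], [9, 9, 9, 9], [3, 3, 10, 4, 3, 3, 10, 4, 3, 3, 10, 4, 3, 3, 10, 4], [3, 10, 4, 9, 3, 3, 3, 10, 4, 10, 10, 3, 3, 10, 4], [3, 9, 9, 4, 9, 4, 3, 3, 10, 4, 10, 10, 3, 9, 4, 4, 10], [3, 3, 3, 3, 3], [10, 3, 10, 3, 10, 3, 10, 3], [9, 4, 10, 4, 4, 9, 4, 10, 4, 4], [3, 9, 3, 9, 3, 9, 3, 9], [1, 4, 1, 9, 3, 10, 3, 10, 10, 4, 1, 3, 1, 4, 9, 4, 10, 4], [1, 3, 1, 9, 1, 4, 1, 10, 10, 3, 3, 9, 4, 10, 10, 4, 4, 10], [1, 4, 1, 9, 9, 1, 3, 1, 4, 4, 10, 3, 3, 9, 4, 4], [1, 3, 1, 4, 1, 3, 9, 3, 10, 3, 1, 3, 1, 4, 1, 4, 9, 4, 10, 4], [1, 9, 1, 3, 10, 4, 9, 3, 9, 4, 4, 10, 3], [1, 3, 9, 4, 4, 1, 4, 4, 10, 4, 4, 10, 3, 3, 10, 3], [1, 3, 1, 3, 1, 3, 1, 3, 1, 3, 1, 3,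 1, 3, 1, 3], [1, 3, 1, 3, 1, 4, 1, 9, 3, 10, 1, 4, 1, 4, 1, 3, 1, 4, 1, 3, 10, 10, 3, 3]]) (rules := [⟨[9, 3, 9, 4, 4, 10, 10, 9, 3, 9, 4, 4, 10, 10, 9, 3, 9, 4, 4, 10, 10, 9, 3, 9, 4, 4, 10, 10], [], 0, true⟩, ⟨[9, 3, 9, 4, 4, 10, 10, 9, 3, 9, 4, 4, 10, 10, 3, 3, 10, 4, 9, 3, 9, 4, 4, 10, 3, 3, 10, 4, 10, 3, 9, 4, 4, 3, 9, 4, 4, 3, 3, 10, 4, 9, 3, 9, 4, 4, 10, 3, 3, 10, 4, 10, 3, 9, 4, 4, 3, 9, 4, 4], [], 1, true⟩, ⟨[9, 3, 9, 4, 4, 10, 10, 9, 3, 9, 4, 4, 10, 10, 3, 3, 10, 4, 9, 3, 9, 4, 4, 10, 3, 3, 10, 4, 3, 3, 10, 4, 9, 3, 9, 4, 4, 3, 3, 10, 4, 9, 3, 9, 4, 4, 10, 3, 3, 10, 4, 3, 3, 10, 4, 9, 3, 9, 4, 4], [], 2, true⟩, ⟨[9, 3, 9, 4, 4, 10, 10, 3, 3, 10, 4, 10, 3, 9, 4, 4, 3, 9, 4, 4, 9, 9, 3, 3, 10, 4, 10, 3, 3, 10, 4, 9, 3, 9, 4, 4, 10, 3, 3, 10, 4, 3, 3, 10, 4,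 9, 3, 9, 4, 4, 9, 3, 3, 10, 4, 10, 3, 9, 4, 4], [], 3, true⟩, ⟨[3, 3, 10, 4, 9, 3, 9, 4, 4, 10, 3, 3, 10, 4, 9, 3, 9, 4, 4, 10, 3, 3, 10, 4, 9, 3, 9, 4, 4, 10, 3, 3, 10, 4, 9, 3, 9, 4, 4, 10], [], 4, true⟩, ⟨[9, 3, 9, 4, 4, 10, 10, 9, 3, 3, 10, 4, 10, 3, 9, 4, 4, 3, 3, 10, 4, 10, 3, 9, 4, 4, 3, 9, 4, 4, 3, 3, 10, 4, 9, 3, 9, 4, 4, 10, 9, 9, 3, 3, 10, 4, 10, 3, 3, 10, 4, 3, 3, 10, 4, 9, 3, 9, 4, 4], [], 5, true⟩, ⟨[9, 3, 9, 4, 4, 10, 10, 3, 3, 10, 4, 9, 3, 9, 4, 4, 10, 3, 3, 10, 4, 3, 3, 10, 4, 9, 3, 9, 4, 4, 9, 3, 9, 4, 4, 10, 10, 3, 3, 10, 4, 9, 3, 9, 4, 4, 10, 3, 3, 10, 4, 3, 3, 10, 4, 9, 3, 9, 4, 4], [], 6, true⟩, ⟨[3, 3, 10, 4, 10, 3, 9, 4, 4, 3, 9, 4, 4, 3, 3, 10, 4, 10, 3, 9, 4, 4, 3, 9, 4, 4, 3, 3, 10, 4, 10, 3, 9, 4, 4, 3, 9, 4, 4, 3, 3, 10, 4, 10, 3, 9, 4,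 4, 3, 9, 4, 4], [], 7, true⟩, ⟨[10, 3, 3, 10, 4, 10, 10, 3, 3, 10, 4, 9, 3, 9, 4, 4, 10, 3, 3, 10, 4, 10, 3, 9, 4, 4, 3, 9, 4, 4, 3, 3, 10, 4, 9, 3, 9, 4, 4, 10], [], 8, true⟩, ⟨[9, 9, 9, 9], [], 9, true⟩, ⟨[3, 3, 10, 4, 3, 3, 10, 4, 3, 3, 10, 4, 3, 3, 10, 4], [], 10, true⟩, ⟨[3, 10, 4, 9, 3, 3, 3, 10, 4, 10, 10, 3, 3, 10, 4], [], 11, true⟩, ⟨[3, 9, 9, 4, 9, 4, 3, 3, 10, 4, 10, 10, 3, 9, 4, 4, 10], [], 12, true⟩, ⟨[3, 3, 3, 3, 3], [], 13, true⟩, ⟨[10, 3, 10, 3, 10, 3, 10, 3], [], 14, true⟩, ⟨[9, 4, 10, 4, 4, 9, 4, 10, 4, 4], [], 15, true⟩, ⟨[3, 9, 3, 9, 3, 9, 3, 9], [], 16, true⟩, ⟨[1, 4, 1, 9, 3, 10, 3, 10, 10, 4, 1, 3, 1, 4, 9, 4, 10, 4], [], 17, true⟩, ⟨[1, 3, 1, 9, 1, 4, 1, 10, 10, 3, 3, 9, 4, 10, 10, 4, 4, 10], [], 18, true⟩, ⟨[1, 4, 1, 9, 9, 1, 3, 1, 4, 4, 10,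 3, 3, 9, 4, 4], [], 19, true⟩, ⟨[1, 3, 1, 4, 1, 3, 9, 3, 10, 3, 1, 3, 1, 4, 1, 4, 9, 4, 10, 4], [], 20, true⟩, ⟨[1, 9, 1, 3, 10, 4, 9, 3, 9, 4, 4, 10, 3], [], 21, true⟩, ⟨[1, 3, 9, 4, 4, 1, 4, 4, 10, 4, 4, 10, 3, 3, 10, 3], [], 22, true⟩, ⟨[1, 3, 1, 3, 1, 3, 1, 3, 1, 3, 1, 3, 1, 3, 1, 3], [], 23, true⟩, ⟨[1, 3, 1, 3, 1, 4, 1, 9, 3, 10, 1, 4, 1, 4, 1, 3, 1, 4, 1, 3, 10, 10, 3, 3], [], 24, true⟩]) pTPZ (AllP.cons (hU.one rel5) (AllP.cons (hU.one rel6) (AllP.cons (hU.one rel7) (AllP.cons (hU.one rel8) (AllP.cons (hU.one rel9) (AllP.cons (hU.one rel10) (AllP.cons (hU.one rel11) (AllP.cons (hU.one rel12) (AllP.cons (hU.one rel13) (AllP.cons (hU.one rel14) (AllP.cons (hU.one rel15) (AllP.cons (hU.one rel16) (AllP.cons (hU.one rel17) (AllP.cons (hU.one rel18) (AllP.cons (hU.one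 rel19) (AllP.cons (hU.one rel20) (AllP.cons (hU.one rel21) (AllP.cons (hU.one rel22) (AllP.cons (hU.one rel23) (AllP.cons (hU.one rel24) (AllP.cons (hU.one rel25) (AllP.cons (hU.one rel26) (AllP.cons (hU.one rel27) (AllP.cons (hU.one rel28) (AllP.cons (hU.one rel29) (AllP.nil)))))))))))))))))))))))))) (by decide +kernel)⟩
theorem pTE : ∀ j < 3, U.fP [1, 9, 3] j = wv 3 fP pTWD j := by
  intro j hj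
  interval_cases j
  · exact vpz1.symm
  · exact vpz9.symm
  · exact vpz3.symm
theorem pTW : Pres 3 1 Tia.RL (wv 3 fP pTWD) := pT.congr pTE
theorem pTG : wsub 3 fP pTWD = U.lsub W30 :=
  (gsub_congr pTE).symm.trans (lsub_eq_gsub U [1, 9, 3])
theorem r_ne : ev (atm 3 fP) [0] ≠ 1 :=
  ne_one_of_sends (ev_eq_evA hiv hPZU (by decide +kernel)) (hU.sends sd31) (by decide)
theorem reach36 : Reach (U.lsub W1) 0 M34 := (Reach.grow hU (Reach.base _ 0) gr35)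
theorem orb39 : (orbS (U.lsub W1) 0).ncard = 1755 := reach36.ncard hU cl37 sz38
theorem orb39e : orbS (U.lsub W1) 0 = {c | Nat.testBit M34 c = true} := reach36.orb hU cl37
theorem reach46 : Reach (U.lsub W40) 101 M44 := (Reach.grow hU (Reach.base _ 101) gr45)
theorem orb49 : (orbS (U.lsub W40) 101).ncard = 1024 := reach46.ncard hU cl47 sz48
theorem orb49e : orbS (U.lsub W40) 101 = {c | Nat.testBit M44 c = true} := reach46.orb hU cl47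
theorem reach54 : Reach (U.lsub W50) 21 M52 := (Reach.grow hU (Reach.base _ 21) gr53)
theorem orb57 : (orbS (U.lsub W50) 21).ncard = 20 := reach54.ncard hU cl55 sz56
theorem orb57e : orbS (U.lsub W50) 21 = {c | Nat.testBit M52 c = true} := reach54.orb hU cl55
theorem lb58 : 20 ∣ Nat.card (U.lsub W50) := dvd_card_orb orb57
theorem lb59 : 20480 ∣ Nat.card (U.lsub W40) :=
  dvd_card_step (s := 1024) (M := 20) (B := U.lsub W50) (Tab.lsub_le_all (AllP.cons (mem_of_rel (hU.one rel42) (U.mem_letters (by decide))) (AllP.cons (mem_of_rel (hU.one rel43) (U.mem_letters (by decide))) (AllP.nil)))) (hU.fixes fx51) orb49 lb58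
theorem lb : 35942400 ∣ Nat.card (U.lsub W1) :=
  dvd_card_step (s := 1755) (M := 20480) (B := U.lsub W40) (Tab.lsub_le_all (AllP.cons (mem_of_rel (hU.one rel32) (U.mem_letters (by decide))) (AllP.cons (mem_of_rel (hU.one rel33) (U.mem_letters (by decide))) (AllP.nil)))) (hU.fixes fx41) orb39 lb59

end Cfsg.Agent.Spor.Rub.L
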